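import Groth.Agent.AlgGrp.K404.QuoKit
import Groth.Agent.AlgGrp.K404.GeoInt
import Groth.Agent.S4141
import Groth.Agent.S4112
import Groth.Agent.S5379
import Groth.Agent.Etcore.AbTors
import Groth.Agent.Sga7.H5.AVZero
import Groth.Agent.Sga7.H617.GaKill
import Groth.Agent.Sga7.H620.Rosenlicht
import Groth.Agent.Sga7.H760.EndGrp
import Groth.Agent.VarietyB.DimSch

/-!
# Commutative algebraic groups whose points are killed by `p` or torsion free are affine

`K404.TorAff.isAffine`: `k` algebraically closed, `N` a commutative group scheme of finite type over `k` such that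
either `char k = p > 0` and `N(k)` is killed by `p`, or `char k = 0` and `N(k)` is torsion free; then `N` is affine.
-/

set_option autoImplicit false
universe u
open CategoryTheory CategoryTheory.Limits MonoidalCategory CartesianMonoidalCategory MonObj GrpObj AlgebraicGeometry

namespace K404.TorAff

open K404.Desc K404.QuoKit

variable {k : Type u} [Field k]

/-- The condition on points: killed by the characteristic, resp. torsion free. -/
def PtCond (N : Over (Spec (CommRingCat.of k))) [GrpObj N] : Prop :=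
  (∃ p : ℕ, p.Prime ∧ CharP k p ∧ ∀ a : 𝟙_ (Over (Spec (CommRingCat.of k))) ⟶ N, a ^ p = 1) ∨
    (CharZero k ∧ ∀ a : 𝟙_ (Over (Spec (CommRingCat.of k))) ⟶ N, ∀ n : ℕ, 0 < n → a ^ n = 1 → a = 1)

theorem PtCond.of_mono {M N : Over (Spec (CommRingCat.of k))} [GrpObj M] [GrpObj N] (m : M ⟶ N) [IsMonHom m]
    [Mono m] (h : PtCond N) : PtCond M := by
  rcases h with ⟨p, hp, hc, h⟩ | ⟨hc, h⟩
  · refine Or.inl ⟨p, hp, hc, fun a => ?_⟩
    rw [← cancel_mono m, MonObj.pow_comp, h, MonObj.one_comp]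
  · refine Or.inr ⟨hc, fun a n hn ha => ?_⟩
    rw [← cancel_mono m, MonObj.one_comp]
    refine h _ n hn ?_
    rw [← MonObj.pow_comp, ha, MonObj.one_comp]

theorem comm_of_mono {S : Scheme.{u}} {M N : Over S} [GrpObj M] [GrpObj N] [IsCommMonObj N] (m : M ⟶ N)
    [IsMonHom m] [Mono m] : IsCommMonObj M := by
  refine ⟨?_⟩
  rw [← cancel_mono m, Category.assoc, IsMonHom.mul_hom, ← BraidedCategory.braiding_naturality_assoc,
    IsCommMonObj.mul_comm]

theorem isMonHom_of_comp_mono {S : Scheme.{u}} {X M N : Over S} [GrpObj X] [GrpObj M] [GrpObj N] (f : X ⟶ M)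
    (m : M ⟶ N) [IsMonHom m] [Mono m] [IsMonHom (f ≫ m)] : IsMonHom f := by
  constructor
  · rw [← cancel_mono m, Category.assoc, IsMonHom.one_hom (f ≫ m), IsMonHom.one_hom m]
  · rw [← cancel_mono m, Category.assoc, IsMonHom.mul_hom (f ≫ m), Category.assoc, IsMonHom.mul_hom m,
      tensorHom_comp_tensorHom_assoc]

/-- Divisibility of the points by integers invertible in `k`. -/
theorem exists_root [IsAlgClosed k] (L : Over (Spec (CommRingCat.of k))) [GrpObj L] [IsCommMonObj L]
    [LocallyOfFiniteType L.hom] [QuasiCompact L.hom] [ConnectedSpace L.left] (n : ℕ) (hn : (n : k) ≠ 0)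
    (x : 𝟙_ (Over (Spec (CommRingCat.of k))) ⟶ L) : ∃ y : 𝟙_ (Over (Spec (CommRingCat.of k))) ⟶ L, y ^ n = x := by
  have h1 : Etale ((𝟙 L : L ⟶ L) ^ n).left := Groth.Agent.S4112.result k L n hn
  have h2 : IsMonHom ((𝟙 L : L ⟶ L) ^ n) := inferInstance
  have h3 : Surjective ((𝟙 L : L ⟶ L) ^ n).left := Groth.Agent.Sga7.H617.GaKill.surjective_of_flat _
  obtain ⟨y, hy⟩ := Groth.Agent.Sga7.H620.Rosenlicht.exists_lift_pt ((𝟙 L : L ⟶ L) ^ n) x
  exact ⟨y, by rw [← hy, MonObj.comp_pow, Category.comp_id]⟩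

/-- An abelian variety with trivial `n`-torsion points, `2 ≤ n` invertible, is trivial. -/
theorem isIso_hom_of_torsion [IsAlgClosed k] (A : Over (Spec (CommRingCat.of k))) [GrpObj A] [IsProper A.hom]
    [Smooth A.hom] [ConnectedSpace A.left] (n : ℕ) (hn1 : 2 ≤ n) (hn : (n : k) ≠ 0)
    (h : ∀ a : 𝟙_ (Over (Spec (CommRingCat.of k))) ⟶ A, a ^ n = 1 → a = 1) : IsIso A.hom := by
  have h1 : GeometricallyIntegral A.hom := GeoInt.geometricallyIntegral A
  have h2 : IsIntegral A.left := GeometricallyIntegral.isIntegral_of_subsingleton A.hom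
  have h3 : ∃ g : ℕ, topologicalKrullDim A.left = g := by
    let _ : A.left.Over (Spec (CommRingCat.of k)) := ⟨A.hom⟩
    have : LocallyOfFiniteType (A.left ↘ Spec (CommRingCat.of k)) :=
      inferInstanceAs (LocallyOfFiniteType A.hom)
    exact ⟨_, Groth.Agent.VarietyB.DimSch.topologicalKrullDim_eq_trd k⟩
  obtain ⟨g, hg⟩ := h3
  have h4 := Groth.Agent.Etcore.AbTors.card_torsion A g hg n hn
  have h5 : Nat.card {x : Over.mk (𝟙 (Spec (CommRingCat.of k))) ⟶ A // x ^ n = 1} = 1 := by
    rw [Nat.card_eq_one_iff_unique]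
    refine ⟨⟨fun x y => ?_⟩, ⟨⟨1, _root_.one_pow n⟩⟩⟩
    apply Subtype.ext
    exact (h x.1 x.2).trans (h y.1 y.2).symm
  rw [h5] at h4
  have h6 : g = 0 := by
    by_contra hg0
    have : 1 < n ^ (2 * g) := Nat.one_lt_pow (by omega) (by omega)
    omega
  subst h6
  exact Groth.Agent.Sga7.H5.AVZero.isIso_hom A (by simpa using hg)

/-- An anti-affine group variety whose points are killed by `p`, resp. torsion free, is trivial. -/
theorem antiAffine_eq_one [IsAlgClosed k] (M : Over (Spec (CommRingCat.of k))) [GrpObj M] [IsCommMonObj M]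
    [Smooth M.hom] [QuasiCompact M.hom] [ConnectedSpace M.left]
    (hM : Function.Bijective ((Scheme.ΓSpecIso (CommRingCat.of k)).inv ≫ M.hom.appTop).hom) (h : PtCond M) :
    𝟙 M = 1 := by
  obtain ⟨L, _, l, Q, _, q, h1, h2, h3, h4, h5, h6, h7, h8, h9, h10, h11, h12, h13, -⟩ :=
    Groth.Agent.S4141.result k M
  have hlm : Mono l := mono_ker h10
  have hLc : IsCommMonObj L := comm_of_mono l
  have hLq : QuasiCompact L.hom := by rw [← Over.w l]; infer_instance
  have hQ : IsIso Q.hom := by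
    rcases h with ⟨p, hp, hc, h⟩ | ⟨hc, h⟩
    · refine isIso_hom_of_torsion Q (p + 1) (by have := hp.two_le; omega) ?_ fun a ha => ?_
      · push_cast
        rw [CharP.cast_eq_zero k p, zero_add]
        exact one_ne_zero
      · obtain ⟨b, rfl⟩ := Groth.Agent.Sga7.H620.Rosenlicht.exists_lift_pt q a
        have h14 : (b ≫ q) ^ p = 1 := by rw [← MonObj.pow_comp, h, MonObj.one_comp]
        rwa [pow_succ, h14, _root_.one_mul] at ha
    · refine isIso_hom_of_torsion Q 2 le_rfl (by simp) fun a ha => ?_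
      obtain ⟨b, rfl⟩ := Groth.Agent.Sga7.H620.Rosenlicht.exists_lift_pt q a
      have h14 : (b ^ 2) ≫ q = 1 := by rw [MonObj.pow_comp, ha]
      obtain ⟨c, hc⟩ := exists_lift_ker h10 _ h14
      obtain ⟨d, hd⟩ := exists_root L 2 (by simp) c
      have h15 : (b * (d ≫ l)⁻¹) ^ 2 = 1 := by
        have h16 : Commute b (d ≫ l)⁻¹ := by
          exact _root_.mul_comm b _
        rw [h16.mul_pow, inv_pow, ← MonObj.pow_comp, hd, hc, mul_inv_cancel]
      have h17 := h _ 2 two_pos h15
      have h18 : b = d ≫ l := by rwa [mul_inv_eq_one] at h17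
      rw [h18]
      exact ker_comp h10 d
  have h14 : q = 1 := by
    have h15 : IsIso (toUnit Q) := by
      have h16 : IsIso ((Over.forget _).map (toUnit Q)) := by
        change IsIso (toUnit Q).left
        rw [Groth.Agent.Fdesc.GrpDimHom.toUnit_left Q]; exact hQ
      exact isIso_of_reflects_iso _ (Over.forget _)
    rw [← cancel_mono (toUnit Q)]
    exact toUnit_unique _ _
  obtain ⟨f, hf⟩ := exists_lift_ker h10 (𝟙 M) (by rw [Category.id_comp, h14])
  have hfm : IsMonHom f := by
    have : IsMonHom (f ≫ l) := by rw [hf]; infer_instance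
    exact isMonHom_of_comp_mono f l
  have h15 : f = 1 := hom_eq_one_of_antiAffine k hM f
  rw [← hf, h15, MonObj.one_comp]

/-- **Main theorem.** -/
theorem isAffine_of_ptCond [IsAlgClosed k] (N : Over (Spec (CommRingCat.of k))) [GrpObj N] [IsCommMonObj N]
    [LocallyOfFiniteType N.hom] [QuasiCompact N.hom] (h : PtCond N) : IsAffine N.left := by
  obtain ⟨M, H, _, _, m, ρ, h1, h2, h3, h4, h5, h6, h7, h8, h9, h10, h11⟩ := exists_hull k N
  have hmm : Mono m := mono_ker h6
  have hMc : IsCommMonObj M := comm_of_mono m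
  have hMq : QuasiCompact M.hom := by rw [← Over.w m]; infer_instance
  have hM := antiAffine_eq_one M h9 (h.of_mono m)
  have hρ : Mono ρ := by
    refine ⟨fun {T} x y hxy => ?_⟩
    have h12 : (x * y⁻¹) ≫ ρ = 1 := by
      rw [MonObj.mul_comp, GrpObj.inv_comp, hxy, mul_inv_cancel]
    obtain ⟨a, ha⟩ := exists_lift_ker h6 _ h12
    have h13 : a = 1 := by rw [← Category.comp_id a, hM, MonObj.comp_one]
    rw [h13, MonObj.one_comp] at ha
    exact (mul_inv_eq_one.mp ha.symm)
  have hρq : QuasiCompact ρ.left := by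
    have : IsSeparated H.hom := by
      have : IsAffineHom H.hom := inferInstance
      infer_instance
    have : QuasiCompact (ρ.left ≫ H.hom) := by rw [Over.w]; infer_instance
    exact QuasiCompact.of_comp ρ.left H.hom
  have := Groth.Agent.S5379.result k N H ρ
  exact isAffine_of_isAffineHom ρ.left

/-- The form for job S12351-E, step (5). -/
theorem isAffine [IsAlgClosed k] (N : Over (Spec (CommRingCat.of k))) [GrpObj N] [IsCommMonObj N]
    [LocallyOfFiniteType N.hom] [QuasiCompact N.hom]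
    (h : (∃ p : ℕ, p.Prime ∧ CharP k p ∧ ∀ a : 𝟙_ (Over (Spec (CommRingCat.of k))) ⟶ N, a ^ p = 1) ∨
      (CharZero k ∧ ∀ a : 𝟙_ (Over (Spec (CommRingCat.of k))) ⟶ N, ∀ n : ℕ, 0 < n → a ^ n = 1 → a = 1)) :
    IsAffine N.left :=
  isAffine_of_ptCond N h

end K404.TorAff
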